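import Cfsg.Agent.Lib.Grp.G25.Main
import Cfsg.Agent.Lib.DC.LyT.C0

set_option autoImplicit false
set_option maxRecDepth 100000
set_option Elab.async false
set_option linter.unusedSectionVars false

namespace Cfsg.Agent.DC.LyT
open Cfsg.Agent.CG

variable [_root_.Fact (Bounds CG.G25.tcR CG.G25.tcS 5859000000)] {Γ : Type*} [Group Γ] {f : CG.G25.PG →* Γ} {τ z : ℕ → Γ} {L : Subgroup Γ}

theorem hiv : ∀ a, CG.G25.act.gen (iv a) = (CG.G25.act.gen a)⁻¹ := fun a =>
  (congrArg CG.G25.act.gen (ivX_eq c0 c1 a)).trans (CG.G25.hinv a)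

theorem h256 : ∀ a, a < 256 → iv a < 256 := fun a ha => (blt_iff _ _).1 ((allLt_iff _ _).1 c2 a ha)

theorem all : allRange (chk CG.G25.app iv CG.G25.bs true facts nd rules) 0 132 = true :=
  c4

theorem sem (hz : ∀ i, z i ∈ Subgroup.center Γ) (hrel : ∀ r ∈ rels, ev (tokv CG.G25.act.gen f τ) r.1 = zv z r.2) :
    ∀ j, j < 132 → Sem CG.G25.act true facts nd rules f τ z L (facts.get j) :=
  sound (env_of_chk (lrels := lrels) (idx := idx) CG.G25.base hiv hz (rels01 hrel) (by simp) (by simp) c2 c3) all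

theorem rel (hz : ∀ i, z i ∈ Subgroup.center Γ) (hrel : ∀ r ∈ rels, ev (tokv CG.G25.act.gen f τ) r.1 = zv z r.2) :
    ∀ v ∈ zs.map Prod.snd, zv z v = 1 :=
  relations hz (sem (L := ⊤) hz hrel) c5


end Cfsg.Agent.DC.LyT
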