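import Cfsg.Agent.Lib.DC.Glue

set_option autoImplicit false
set_option maxRecDepth 100000
set_option Elab.async false
set_option linter.unusedSectionVars false

namespace Cfsg.Agent.DC.LyT
open Cfsg.Agent.CG

noncomputable def facts : Tr Fact := (.node (.node (.node (.node (.node (.node (.node (.node (.leaf (Fact.mk (nat_lit 8) (nat_lit 0x1) (nat_lit 0x1) (nat_lit 0x1) (nat_lit 0x1) [])) (.leaf (Fact.mk (nat_lit 40962) (nat_lit 0x1) (nat_lit 0x1) (nat_lit 0x1) (nat_lit 0x1000000b9000000a4) [.ofNat 0,.ofNat 0,.ofNat 0,.ofNat 0,.ofNat 0,.ofNat 0,.ofNat 0,.ofNat 0,.ofNat 3,.negSucc 2,.ofNat 1]))) (.leaf (Fact.mk (nat_lit 4503599895846914) (nat_lit 0x1) (nat_lit 0x1) (nat_lit 0x1) (nat_lit 0x10000007c004000740000007000800068000000600000005e0000003d000000410000003d0000002d000000510000004500000040000000310000003800000044000000410000003d00000045000000350000005000000040) [.ofNat 0,.ofNat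 0,.ofNat 0,.ofNat 0,.ofNat 0,.ofNat 0,.negSucc 0,.negSucc 2]))) (.node (.leaf (Fact.mk (nat_lit 4503599895838720) (nat_lit 0x1002b) (nat_lit 0x1) (nat_lit 0x127) (nat_lit 0x1000000280000003e0000002800000010) [.ofNat 0,.ofNat 0,.ofNat 0,.ofNat 0,.ofNat 0,.ofNat 0,.ofNat 1])) (.leaf (Fact.mk (nat_lit 4503600164278288) (nat_lit 0x1) (nat_lit 0x1002606) (nat_lit 0x1) (nat_lit 0x1000000ba) [.ofNat 0,.ofNat 0,.ofNat 0,.ofNat 0,.ofNat 0,.ofNat 0,.ofNat 0,.ofNat 0,.ofNat 1])))) (.node (.node (.leaf (Fact.mk (nat_lit 21) (nat_lit 0x12c05292528) (nat_lit 0x1252c2a04012c) (nat_lit 0x1) (nat_lit 0x1000000040000001e00000004000000100000000f) [.negSucc 2,.negSucc 1,.ofNat 0,.ofNat 0,.ofNat 0,.negSucc 4,.negSucc 3,.ofNat 1])) (.leaf (Fact.mk (nat_lit 4503599895838720) (nat_lit 0x1002b04042a1f02) (nat_lit 0x1002b200e2c2a02) (nat_lit 0x127250b0b20) (nat_lit 0x10160009e00600083000000750000007100600069000000610000005f00000096000000110000002100000014000000220000009a)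 [.ofNat 0,.ofNat 0,.ofNat 0,.ofNat 0,.ofNat 0,.ofNat 0,.ofNat 0,.ofNat 0,.negSucc 2,.ofNat 2]))) (.node (.leaf (Fact.mk (nat_lit 4503599895846914) (nat_lit 0x1) (nat_lit 0x1) (nat_lit 0x1) (nat_lit 0x1002000550000004e0060005f0000003c0000003c0000003c00000031000000340000005900000050000000300000003d0000003d0000003d000000510000005900000035) [.ofNat 0,.ofNat 1,.negSucc 1,.negSucc 1])) (.leaf (Fact.mk (nat_lit 40962) (nat_lit 0x1) (nat_lit 0x1) (nat_lit 0x1) (nat_lit 0x1000000df) [.ofNat 0,.ofNat 0,.ofNat 0,.ofNat 0,.ofNat 0,.ofNat 0,.ofNat 0,.ofNat 0,.ofNat 0,.ofNat 0,.ofNat 0,.ofNat 0,.ofNat 0,.ofNat 2]))))) (.node (.node (.node (.leaf (Fact.mk (nat_lit 24593) (nat_lit 0x127) (nat_lit 0x1002b) (nat_lit 0x1) (nat_lit 0x1) [.ofNat 0,.ofNat 0,.ofNat 0,.ofNat 0,.ofNat 0,.ofNat 0,.negSucc 0])) (.leaf (Fact.mk (nat_lit 40962) (nat_lit 0x12726040c25292b) (nat_lit 0x12726040c25292b) (nat_lit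 0x1) (nat_lit 0x10000008f0000008c) [.ofNat 0,.ofNat 0,.ofNat 0,.ofNat 0,.ofNat 0,.ofNat 0,.ofNat 0,.negSucc 1]))) (.node (.leaf (Fact.mk (nat_lit 4503599895846912) (nat_lit 0x12c042b040e) (nat_lit 0x1) (nat_lit 0x12b091f042c) (nat_lit 0x10000002d000000300000002d00000030) [.negSucc 1,.ofNat 2])) (.leaf (Fact.mk (nat_lit 40962) (nat_lit 0x1) (nat_lit 0x1) (nat_lit 0x1) (nat_lit 0x1000000cf) [.ofNat 0,.ofNat 0,.ofNat 0,.ofNat 0,.ofNat 0,.ofNat 0,.ofNat 0,.ofNat 0,.ofNat 0,.ofNat 0,.ofNat 0,.ofNat 1])))) (.node (.node (.leaf (Fact.mk (nat_lit 4503599895838720) (nat_lit 0x12b04042c0b) (nat_lit 0x1) (nat_lit 0x10a) (nat_lit 0x1000000280000002e0000002800000004) [.ofNat 0,.ofNat 1])) (.leaf (Fact.mk (nat_lit 40962) (nat_lit 0x1) (nat_lit 0x1) (nat_lit 0x1) (nat_lit 0x1000000af) [.ofNat 0,.ofNat 0,.ofNat 0,.ofNat 0,.ofNat 0,.ofNat 0,.ofNat 0,.ofNat 0,.ofNat 0,.ofNat 2,.negSucc 1])))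 (.node (.leaf (Fact.mk (nat_lit 40962) (nat_lit 0x1) (nat_lit 0x1) (nat_lit 0x1) (nat_lit 0x10000006f) [.ofNat 0,.ofNat 0,.ofNat 0,.ofNat 1])) (.leaf (Fact.mk (nat_lit 40962) (nat_lit 0x1) (nat_lit 0x1) (nat_lit 0x1) (nat_lit 0x100000068) [.ofNat 0,.ofNat 0,.ofNat 1])))))) (.node (.node (.node (.node (.leaf (Fact.mk (nat_lit 12305) (nat_lit 0x10e) (nat_lit 0x12c1f2b0c) (nat_lit 0x1) (nat_lit 0x1) [.ofNat 0,.ofNat 0,.ofNat 0,.negSucc 0])) (.leaf (Fact.mk (nat_lit 40962) (nat_lit 0x1) (nat_lit 0x1) (nat_lit 0x1) (nat_lit 0x100000087) [.ofNat 0,.ofNat 0,.ofNat 0,.ofNat 0,.ofNat 0,.ofNat 0,.ofNat 0,.ofNat 4]))) (.node (.leaf (Fact.mk (nat_lit 4503599895838720) (nat_lit 0x1000004292b2a27) (nat_lit 0x1) (nat_lit 0x12c040e282a2b) (nat_lit 0x10000002800000046000000280000001a) [.ofNat 2,.ofNat 0,.ofNat 0,.ofNat 0,.ofNat 0,.ofNat 4,.ofNat 2,.negSucc 0])) (.leaf (Fact.mk (nat_lit 9007199523213328)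 (nat_lit 0x1252c0904292c2a0604250e) (nat_lit 0x1002b090b2a2b112c0a) (nat_lit 0x1012a2729110c0f) (nat_lit 0x1000000c6) [.ofNat 0,.ofNat 0,.ofNat 0,.ofNat 0,.ofNat 0,.ofNat 0,.ofNat 0,.ofNat 0,.ofNat 0,.ofNat 0,.ofNat 0,.negSucc 0])))) (.node (.node (.leaf (Fact.mk (nat_lit 4503599627370516) (nat_lit 0x1) (nat_lit 0x1) (nat_lit 0x1) (nat_lit 0x1) [])) (.leaf (Fact.mk (nat_lit 4503599895855120) (nat_lit 0x1080105) (nat_lit 0x10129000f2902082c) (nat_lit 0x1252b05200d03080a) (nat_lit 0x10180009f00600082002000740000007000400068000000600000005e00000028000000a60000004a0000000e00000011000000190000000700000015) [.ofNat 0,.ofNat 0,.ofNat 0,.ofNat 0,.ofNat 0,.ofNat 0,.ofNat 0,.ofNat 0,.negSucc 0,.ofNat 0,.ofNat 1]))) (.node (.leaf (Fact.mk (nat_lit 40962) (nat_lit 0x1) (nat_lit 0x1) (nat_lit 0x1) (nat_lit 0x100000067) [.ofNat 0,.ofNat 0,.ofNat 1])) (.leaf (Fact.mk (nat_lit 9007199791652866)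 (nat_lit 0x1002704012906140e0c) (nat_lit 0x1002704012906140e0c) (nat_lit 0x1) (nat_lit 0x1002000d0000000bd000000bd000000c3000000bf000000cd000000bf000000cd000000e6) [.ofNat 0,.ofNat 0,.ofNat 0,.ofNat 0,.ofNat 0,.ofNat 0,.ofNat 0,.ofNat 0,.ofNat 0,.ofNat 0,.ofNat 0,.ofNat 0,.ofNat 0,.negSucc 0]))))) (.node (.node (.node (.leaf (Fact.mk (nat_lit 21) (nat_lit 0x101272a2b) (nat_lit 0x101270c052a2b0d) (nat_lit 0x1) (nat_lit 0x10000000e0000001700000008) [.negSucc 0,.ofNat 0,.ofNat 0,.negSucc 0,.ofNat 0,.negSucc 1,.ofNat 1,.negSucc 0])) (.leaf (Fact.mk (nat_lit 4503599895838720) (nat_lit 0x12504250b2902) (nat_lit 0x1252c0429050e02) (nat_lit 0x101270b25200d) (nat_lit 0x10280009201a000830100007501a00069000000610080005f000000960000003c0000003c0000003c0000005b000000840000002c000000850000009600000026000000150000000200000015) []))) (.node (.leaf (Fact.mk (nat_lit 4503599895846912) (nat_lit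 0x100040d1f01) (nat_lit 0x1) (nat_lit 0x101040e1f00) (nat_lit 0x10000005000000038) [.negSucc 1,.ofNat 2,.ofNat 0,.ofNat 1])) (.leaf (Fact.mk (nat_lit 9007199791673360) (nat_lit 0x127250c102906040b0f) (nat_lit 0x1252b040e2a092606082914) (nat_lit 0x125042900052902130515) (nat_lit 0x10580009f01a00082010000740100007003e00068006000600140005e000000ba0000000f0000001100000022000000200000002d00000035000000350000002d000000c00000000e00000011000000160000000200000006000000cd000000be000000cc000000bc000000c40000002400000002000000070000000200000011000000bd000000cc000000c2000000cd) [.ofNat 0,.ofNat 0,.ofNat 0,.ofNat 0,.ofNat 0,.ofNat 0,.ofNat 0,.ofNat 0,.negSucc 0,.ofNat 0,.ofNat 1,.ofNat 0,.ofNat 0,.negSucc 0])))) (.node (.node (.leaf (Fact.mk (nat_lit 4503599895838720) (nat_lit 0x12c1f2b0c) (nat_lit 0x1) (nat_lit 0x10e) (nat_lit 0x100000028000000360000002800000008) [.ofNat 0,.ofNat 0,.ofNat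 0,.ofNat 1])) (.leaf (Fact.mk (nat_lit 40962) (nat_lit 0x1) (nat_lit 0x1) (nat_lit 0x1) (nat_lit 0x1000000b7) [.ofNat 0,.ofNat 0,.ofNat 0,.ofNat 0,.ofNat 0,.ofNat 0,.ofNat 0,.ofNat 0,.ofNat 0,.ofNat 1,.negSucc 0]))) (.node (.leaf (Fact.mk (nat_lit 40962) (nat_lit 0x1) (nat_lit 0x1) (nat_lit 0x1) (nat_lit 0x100000077) [.ofNat 0,.ofNat 0,.ofNat 0,.ofNat 0,.ofNat 0,.ofNat 0,.ofNat 8])) (.leaf (Fact.mk (nat_lit 40962) (nat_lit 0x1) (nat_lit 0x1) (nat_lit 0x1) (nat_lit 0x10040009f00000082) [.ofNat 0,.ofNat 0,.ofNat 0,.ofNat 0,.ofNat 0,.ofNat 0,.ofNat 1]))))))) (.node (.node (.node (.node (.node (.node (.leaf (Fact.mk (nat_lit 4113) (nat_lit 0x10a) (nat_lit 0x12b04042c0b) (nat_lit 0x1) (nat_lit 0x1) [.ofNat 0,.negSucc 0])) (.leaf (Fact.mk (nat_lit 40962) (nat_lit 0x1) (nat_lit 0x1) (nat_lit 0x1) (nat_lit 0x1000000d6) [.ofNat 0,.ofNat 0,.ofNat 0,.ofNat 0,.ofNat 0,.ofNat 0,.ofNat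 0,.ofNat 0,.ofNat 0,.ofNat 0,.ofNat 0,.ofNat 0,.ofNat 1]))) (.leaf (Fact.mk (nat_lit 4503599895846912) (nat_lit 0x12b0a1f2a25) (nat_lit 0x1) (nat_lit 0x12b09290105) (nat_lit 0x10000007e00200083002000750020007100200068000000610020005e0000003c0000003c0000004000000045000000410000005000000031) [.ofNat 0,.ofNat 0,.ofNat 0,.ofNat 0,.ofNat 0,.ofNat 0,.ofNat 0,.ofNat 1]))) (.node (.leaf (Fact.mk (nat_lit 4503599895838720) (nat_lit 0x1262c0429050e2b) (nat_lit 0x1) (nat_lit 0x1002c0429050e2b) (nat_lit 0x100000028000000420000002800000012) [.ofNat 0,.ofNat 0,.ofNat 0,.ofNat 0,.ofNat 0,.ofNat 0,.ofNat 0,.ofNat 1])) (.leaf (Fact.mk (nat_lit 9007199791661072) (nat_lit 0x1080105) (nat_lit 0x1002c0a29012c02082c) (nat_lit 0x12804) (nat_lit 0x10120009f0040008200c0007001400068006000600020005e000000ba0000000f00000011000000040000001f000000200000002d00000041000000c00000000e00000011000000190000000700000015)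 [.ofNat 0,.ofNat 0,.ofNat 0,.ofNat 0,.ofNat 0,.ofNat 0,.ofNat 0,.ofNat 0,.negSucc 0,.ofNat 0,.ofNat 1])))) (.node (.node (.leaf (Fact.mk (nat_lit 21) (nat_lit 0x1262c) (nat_lit 0x1002c) (nat_lit 0x1) (nat_lit 0x10000000f000000110000000f) [.ofNat 0,.ofNat 0,.ofNat 0,.ofNat 0,.ofNat 0,.ofNat 2,.ofNat 1])) (.leaf (Fact.mk (nat_lit 40962) (nat_lit 0x1) (nat_lit 0x1) (nat_lit 0x1) (nat_lit 0x1000000a3) [.ofNat 0,.ofNat 0,.ofNat 0,.ofNat 0,.ofNat 0,.ofNat 0,.ofNat 0,.ofNat 0,.ofNat 3,.negSucc 1]))) (.node (.leaf (Fact.mk (nat_lit 40962) (nat_lit 0x1) (nat_lit 0x1) (nat_lit 0x1) (nat_lit 0x100000063) [.ofNat 0,.ofNat 0,.ofNat 2])) (.leaf (Fact.mk (nat_lit 9007199791661072) (nat_lit 0x125040a261f11160f20) (nat_lit 0x1252b040110290006161315) (nat_lit 0x125281f29250f02111608) (nat_lit 0x1000000d1002000b8000000a401e0009e00a00083008000750060007000200069000000600020005f000000e2000000100000001f0000002200000014000000bc000000cd000000c2000000bc000000e20000002400000027000000080000001600000013000000bc000000cc000000be000000cc000000c3000000c3)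 [.ofNat 0,.ofNat 0,.ofNat 0,.ofNat 0,.ofNat 0,.ofNat 0,.ofNat 0,.ofNat 0,.negSucc 0,.ofNat 0,.ofNat 1]))))) (.node (.node (.node (.leaf (Fact.mk (nat_lit 21) (nat_lit 0x125280b280f) (nat_lit 0x1000004042001) (nat_lit 0x1) (nat_lit 0x100000011000000030000001100000005000000030000000f0000000f0000000f) [.ofNat 2,.ofNat 1,.ofNat 0,.ofNat 0,.ofNat 0,.ofNat 3,.ofNat 2])) (.leaf (Fact.mk (nat_lit 8) (nat_lit 0x1260b2b290902) (nat_lit 0x1) (nat_lit 0x1260b2b290902) (nat_lit 0x1) []))) (.node (.leaf (Fact.mk (nat_lit 40962) (nat_lit 0x1) (nat_lit 0x1) (nat_lit 0x1) (nat_lit 0x100000053) [.ofNat 0,.ofNat 0,.ofNat 5])) (.leaf (Fact.mk (nat_lit 9007199791644672) (nat_lit 0x1252b0b1f292b110c0f) (nat_lit 0x1002c05) (nat_lit 0x10129001027031209) (nat_lit 0x10100009e00400083002000750020007100e00069000000610040005f000000ba0000000e000000100000000300000014000000d2) [.ofNat 0,.ofNat 0,.ofNat 0,.ofNat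 0,.ofNat 0,.ofNat 0,.ofNat 0,.ofNat 0,.ofNat 0,.ofNat 0,.ofNat 0,.ofNat 0,.ofNat 1])))) (.node (.node (.leaf (Fact.mk (nat_lit 4503599895838720) (nat_lit 0x10a0e0e) (nat_lit 0x1) (nat_lit 0x10c) (nat_lit 0x100000028000000320000002800000006) [.ofNat 0,.ofNat 0,.ofNat 1])) (.leaf (Fact.mk (nat_lit 4503599895838720) (nat_lit 0x101202a010c02082c) (nat_lit 0x10129000f2902082c) (nat_lit 0x10000050c092a) (nat_lit 0x1000000b1000000a8000000b2) [.ofNat 0,.ofNat 0,.ofNat 0,.ofNat 0,.ofNat 0,.ofNat 0,.ofNat 0,.ofNat 0,.ofNat 0,.negSucc 0,.ofNat 1]))) (.node (.leaf (Fact.mk (nat_lit 40962) (nat_lit 0x1) (nat_lit 0x1) (nat_lit 0x1) (nat_lit 0x100000073) [.ofNat 0,.ofNat 0,.ofNat 0,.ofNat 0,.ofNat 0,.ofNat 1,.negSucc 0])) (.leaf (Fact.mk (nat_lit 40962) (nat_lit 0x1) (nat_lit 0x1) (nat_lit 0x1) (nat_lit 0x10000008a) [.ofNat 0,.ofNat 0,.ofNat 0,.ofNat 0,.ofNat 1])))))) (.node (.node (.node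 (.node (.leaf (Fact.mk (nat_lit 21) (nat_lit 0x1) (nat_lit 0x1) (nat_lit 0x1) (nat_lit 0x10000000a00000005000000020000000400000003) [.ofNat 0,.ofNat 0,.ofNat 0,.ofNat 0,.negSucc 0])) (.leaf (Fact.mk (nat_lit 32768) (nat_lit 0x128040a0d292b) (nat_lit 0x10000) (nat_lit 0x12726040c25292b) (nat_lit 0x10080008900a00082006000740020007100800068000000610040005e0000004a0000003c0000003c00000040000000300000002d000000850000003d0000004a00000024000000070000000e0000001b) [.ofNat 0,.ofNat 0,.ofNat 0,.ofNat 0,.ofNat 0,.ofNat 0,.ofNat 0,.negSucc 1]))) (.node (.leaf (Fact.mk (nat_lit 4503599895838720) (nat_lit 0x1) (nat_lit 0x1) (nat_lit 0x1) (nat_lit 0x100000028000000280000000c) [.ofNat 0,.ofNat 0,.ofNat 0,.ofNat 0,.ofNat 1])) (.leaf (Fact.mk (nat_lit 9007199791652864) (nat_lit 0x1262c0a0b0d11000b09) (nat_lit 0x1) (nat_lit 0x1252b0b2a00060906) (nat_lit 0x1000000ca) [.ofNat 0,.ofNat 0,.ofNat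 0,.ofNat 0,.ofNat 0,.ofNat 0,.ofNat 0,.ofNat 0,.ofNat 0,.ofNat 0,.ofNat 0,.ofNat 1])))) (.node (.node (.leaf (Fact.mk (nat_lit 4503599895838720) (nat_lit 0x12704010d2b) (nat_lit 0x1) (nat_lit 0x105) (nat_lit 0x1000000280000002a0000002800000002) [.ofNat 1])) (.leaf (Fact.mk (nat_lit 4503599895838720) (nat_lit 0x1080a00) (nat_lit 0x1002b051f1f2a080a00) (nat_lit 0x1252b0910202a) (nat_lit 0x10320009f00e00082008000740020007100000068000000610000005e000000a80000000e00000025000000060000001a00000019000000300000003900000040000000aa) [.ofNat 0,.ofNat 0,.ofNat 0,.ofNat 0,.ofNat 0,.ofNat 0,.ofNat 0,.ofNat 0,.ofNat 0,.negSucc 1,.ofNat 2]))) (.node (.leaf (Fact.mk (nat_lit 40962) (nat_lit 0x1) (nat_lit 0x1) (nat_lit 0x1) (nat_lit 0x10000006b) [.ofNat 0,.ofNat 0,.ofNat 0,.ofNat 2])) (.leaf (Fact.mk (nat_lit 40962) (nat_lit 0x1) (nat_lit 0x1) (nat_lit 0x1) (nat_lit 0x1002000680000005e) [.ofNat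 1]))))) (.node (.node (.node (.leaf (Fact.mk (nat_lit 21) (nat_lit 0x12725042a2b2a) (nat_lit 0x12604290009) (nat_lit 0x1) (nat_lit 0x1000000110000001900000008000000020000000e000000100000000e) [.ofNat 0,.ofNat 0,.ofNat 0,.ofNat 0,.ofNat 0,.ofNat 0,.negSucc 0,.ofNat 1])) (.leaf (Fact.mk (nat_lit 4503599895846914) (nat_lit 0x12c0e0527) (nat_lit 0x12c0e0527) (nat_lit 0x1) (nat_lit 0x1000000920000008300800070000000600000003d000000400000003c0000002c000000390000005b00000098) [.ofNat 0,.ofNat 0,.ofNat 0,.ofNat 0,.ofNat 0,.ofNat 0,.ofNat 0,.negSucc 0]))) (.node (.leaf (Fact.mk (nat_lit 4503599895846914) (nat_lit 0x1) (nat_lit 0x1) (nat_lit 0x1) (nat_lit 0x10000003d0000003d0000002d0000002d000000340000003400000034000000340000003c0000003c00000035000000350000002c) [.negSucc 0,.ofNat 0,.ofNat 2])) (.leaf (Fact.mk (nat_lit 9007199791644672) (nat_lit 0x1280e29262011160f20) (nat_lit 0x12b292b05010213081320)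 (nat_lit 0x100041f0d1f132a13) (nat_lit 0x1002000d10100009e00400083006000750020007000200069000000600020005f000000d8000000260000001f0000001500000016000000cc000000be000000cc000000da) [.ofNat 0,.ofNat 0,.ofNat 0,.ofNat 0,.ofNat 0,.ofNat 0,.ofNat 0,.ofNat 0,.ofNat 0,.ofNat 0,.ofNat 0,.ofNat 0,.ofNat 0,.negSucc 1])))) (.node (.node (.leaf (Fact.mk (nat_lit 4503599895838720) (nat_lit 0x125) (nat_lit 0x1) (nat_lit 0x101) (nat_lit 0x1000000280000003a000000280000000e) [.ofNat 0,.ofNat 0,.ofNat 0,.ofNat 0,.ofNat 0,.ofNat 1])) (.leaf (Fact.mk (nat_lit 9007199791644672) (nat_lit 0x1252b) (nat_lit 0x1) (nat_lit 0x127) (nat_lit 0x1000000ba00000040000000350000002d0000003c0000003d0000002c00000034000000ba00000011) []))) (.node (.leaf (Fact.mk (nat_lit 40962) (nat_lit 0x1) (nat_lit 0x1) (nat_lit 0x1) (nat_lit 0x10000007b) [.ofNat 0,.ofNat 0,.ofNat 0,.ofNat 0,.ofNat 0,.ofNat 0,.ofNat 2,.negSucc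 1])) (.leaf (Fact.mk (nat_lit 40962) (nat_lit 0x1) (nat_lit 0x1) (nat_lit 0x1) (nat_lit 0x1000000a4) [.ofNat 0,.ofNat 0,.ofNat 0,.ofNat 0,.ofNat 0,.ofNat 0,.ofNat 0,.ofNat 0,.ofNat 3,.negSucc 1])))))))) (.node (.node (.node (.node (.node (.node (.node (.leaf (Fact.mk (nat_lit 17) (nat_lit 0x105) (nat_lit 0x12704010d2b) (nat_lit 0x1) (nat_lit 0x1) [.negSucc 0])) (.leaf (Fact.mk (nat_lit 40962) (nat_lit 0x1) (nat_lit 0x1) (nat_lit 0x1) (nat_lit 0x1000000d0) [.ofNat 0,.ofNat 0,.ofNat 0,.ofNat 0,.ofNat 0,.ofNat 0,.ofNat 0,.ofNat 0,.ofNat 0,.ofNat 0,.ofNat 0,.ofNat 1]))) (.leaf (Fact.mk (nat_lit 40962) (nat_lit 0x1) (nat_lit 0x1) (nat_lit 0x1) (nat_lit 0x100000081) [.ofNat 0,.ofNat 0,.ofNat 0,.ofNat 0,.ofNat 0,.ofNat 0,.ofNat 1,.ofNat 3]))) (.node (.leaf (Fact.mk (nat_lit 8) (nat_lit 0x1002c0429050e2b) (nat_lit 0x1) (nat_lit 0x1002c0429050e2b) (nat_lit 0x1) [])) (.leaf (Fact.mk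 (nat_lit 9007199791652864) (nat_lit 0x12c) (nat_lit 0x1) (nat_lit 0x12725) (nat_lit 0x1000000bf000000bf000000bd000000bf) [])))) (.node (.node (.leaf (Fact.mk (nat_lit 21) (nat_lit 0x12c290a0b2b) (nat_lit 0x1262a2b2927) (nat_lit 0x1) (nat_lit 0x10000002000000002000000080000000e0000000e) [.negSucc 3,.negSucc 1,.ofNat 0,.negSucc 0,.ofNat 0,.negSucc 6,.negSucc 3,.ofNat 1])) (.leaf (Fact.mk (nat_lit 4503599895846914) (nat_lit 0x127250e050e) (nat_lit 0x127250e050e) (nat_lit 0x1) (nat_lit 0x100a0009e00200083000000750060007000200069000000600020005f000000400000003c000000300000005900000039000000a0) [.ofNat 0,.ofNat 0,.ofNat 0,.ofNat 0,.ofNat 0,.ofNat 0,.ofNat 0,.ofNat 0,.negSucc 2,.ofNat 2]))) (.node (.leaf (Fact.mk (nat_lit 4503599895846914) (nat_lit 0x1) (nat_lit 0x1) (nat_lit 0x1) (nat_lit 0x1006000570000005500c000610040005e0000003c0000002d000000580000005a000000340000005a000000500000003d000000390000002d0000005a)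 [.ofNat 0,.ofNat 0,.negSucc 1])) (.leaf (Fact.mk (nat_lit 9007199791677456) (nat_lit 0x1252c052b2928062a1302) (nat_lit 0x100250d2c2a26111313) (nat_lit 0x1002610060a0f20) (nat_lit 0x1000000e0006000d10000009f000000820040007400e0007001a00068006000600060005e000000d80000000e000000240000002700000002000000040000000700000015000000cc000000bf000000cc000000bf000000ba0000000f00000011000000020000001200000004000000170000002c0000003400000031000000c00000000e0000000e0000000e00000002000000080000002300000020000000cc000000bd000000be000000cc) [.ofNat 0,.ofNat 0,.ofNat 0,.ofNat 0,.ofNat 0,.ofNat 0,.ofNat 0,.ofNat 0,.negSucc 0,.ofNat 0,.ofNat 1]))))) (.node (.node (.node (.leaf (Fact.mk (nat_lit 28689) (nat_lit 0x1002c0429050e2b) (nat_lit 0x1262c0429050e2b) (nat_lit 0x1) (nat_lit 0x1) [.ofNat 0,.ofNat 0,.ofNat 0,.ofNat 0,.ofNat 0,.ofNat 0,.ofNat 0,.negSucc 0])) (.leaf (Fact.mk (nat_lit 40962) (nat_lit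 0x1) (nat_lit 0x1) (nat_lit 0x1) (nat_lit 0x100000091) [.ofNat 0,.ofNat 0,.ofNat 0,.ofNat 0,.ofNat 0,.ofNat 0,.ofNat 0,.ofNat 2]))) (.node (.leaf (Fact.mk (nat_lit 4503599895846914) (nat_lit 0x1) (nat_lit 0x1) (nat_lit 0x1) (nat_lit 0x10000002d0000002d00000035000000350000002c000000350000002c0000003500000035) [.ofNat 0,.ofNat 0,.negSucc 4])) (.leaf (Fact.mk (nat_lit 9007199523233808) (nat_lit 0x1270005202928080a07) (nat_lit 0x1252b0b1f292b110c0f) (nat_lit 0x12528040a20012a020211) (nat_lit 0x1000000d00500009e0180008300e0007501600069000000610040005f000000ba0000002700000012000000100000002c000000300000005b00000039000000c00000001100000002000000070000001b0000001c000000cd000000c2000000bd000000ba0000000e00000024000000140000001000000009000000340000004000000085) [.ofNat 0,.ofNat 0,.ofNat 0,.ofNat 0,.ofNat 0,.ofNat 0,.ofNat 0,.ofNat 0,.ofNat 0,.ofNat 0,.ofNat 0,.ofNat 0,.negSucc 0]))))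 (.node (.node (.leaf (Fact.mk (nat_lit 8) (nat_lit 0x10c) (nat_lit 0x1) (nat_lit 0x10c) (nat_lit 0x1) [])) (.leaf (Fact.mk (nat_lit 4503599895851024) (nat_lit 0x1080105) (nat_lit 0x101202a010c02082c) (nat_lit 0x12700092a25280208) (nat_lit 0x1000000a400e0009f00400082006000740180007002000068008000600060005e000000a80000000e000000110000000400000009000000220000003500000041000000a8000000240000001b0000001800000011000000310000005b) [.ofNat 0,.ofNat 0,.ofNat 0,.ofNat 0,.ofNat 0,.ofNat 0,.ofNat 0,.ofNat 0,.negSucc 0,.negSucc 0,.ofNat 2]))) (.node (.leaf (Fact.mk (nat_lit 4503599895846914) (nat_lit 0x1) (nat_lit 0x1) (nat_lit 0x1) (nat_lit 0x100600071000000610000005f0000003d000000410000003d000000590000005a000000400000002c0000003c000000400000002d000000580000003500000035) [.ofNat 0,.ofNat 0,.ofNat 0,.ofNat 0,.ofNat 0,.negSucc 0,.ofNat 1])) (.leaf (Fact.mk (nat_lit 40962) (nat_lit 0x1)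 (nat_lit 0x1) (nat_lit 0x1) (nat_lit 0x100000070) [.ofNat 0,.ofNat 0,.ofNat 0,.ofNat 1])))))) (.node (.node (.node (.node (.leaf (Fact.mk (nat_lit 16401) (nat_lit 0x110) (nat_lit 0x1000f01) (nat_lit 0x1) (nat_lit 0x1) [.ofNat 0,.ofNat 0,.ofNat 0,.ofNat 0,.negSucc 0])) (.leaf (Fact.mk (nat_lit 4503599895846914) (nat_lit 0x1) (nat_lit 0x1) (nat_lit 0x1) (nat_lit 0x10000004c) [.ofNat 0,.ofNat 0,.ofNat 0,.ofNat 0,.ofNat 1]))) (.node (.leaf (Fact.mk (nat_lit 268472336) (nat_lit 0x1) (nat_lit 0x10000) (nat_lit 0x1) (nat_lit 0x100000028) [.ofNat 0,.ofNat 0,.ofNat 0,.ofNat 0,.ofNat 0,.ofNat 0,.ofNat 0,.ofNat 0,.ofNat 1])) (.leaf (Fact.mk (nat_lit 9007199791644672) (nat_lit 0x1002b090b2a2b112c0a) (nat_lit 0x10027040a2c042a) (nat_lit 0x1252b0b2a00060906) (nat_lit 0x102e0009e00e0008300c0007500a0007100e00069004000610000005f000000ba00000024000000020000001400000016000000100000002c00000050000000850000003c000000c8)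 [.ofNat 0,.ofNat 0,.ofNat 0,.ofNat 0,.ofNat 0,.ofNat 0,.ofNat 0,.ofNat 0,.ofNat 0,.ofNat 0,.ofNat 0,.ofNat 1])))) (.node (.node (.leaf (Fact.mk (nat_lit 8) (nat_lit 0x105) (nat_lit 0x1) (nat_lit 0x105) (nat_lit 0x1) [])) (.leaf (Fact.mk (nat_lit 4503599895842832) (nat_lit 0x10129000f2902082c) (nat_lit 0x1080a00) (nat_lit 0x1092a0e080a27) (nat_lit 0x1000000a5000000a8) [.ofNat 0,.ofNat 0,.ofNat 0,.ofNat 0,.ofNat 0,.ofNat 0,.ofNat 0,.ofNat 0,.negSucc 0,.ofNat 2,.negSucc 0]))) (.node (.leaf (Fact.mk (nat_lit 4503599895846914) (nat_lit 0x1) (nat_lit 0x1) (nat_lit 0x1) (nat_lit 0x100000069000000600000005f0000003c0000003c0000002d00000059000000380000003500000050000000300000003d0000003d000000510000003400000034) [.ofNat 0,.ofNat 0,.ofNat 0,.negSucc 1])) (.leaf (Fact.mk (nat_lit 40962) (nat_lit 0x1) (nat_lit 0x1) (nat_lit 0x1) (nat_lit 0x1000000e9) [.ofNat 0,.ofNat 0,.ofNat 0,.ofNat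 0,.ofNat 0,.ofNat 0,.ofNat 0,.ofNat 0,.ofNat 0,.ofNat 0,.ofNat 0,.ofNat 0,.ofNat 0,.ofNat 1]))))) (.node (.node (.node (.leaf (Fact.mk (nat_lit 21) (nat_lit 0x12c040e282a2b) (nat_lit 0x1000004292b2a27) (nat_lit 0x1) (nat_lit 0x10000001500000005000000130000000e) [.negSucc 1,.ofNat 0,.ofNat 0,.ofNat 0,.ofNat 0,.negSucc 3,.negSucc 1,.ofNat 1])) (.leaf (Fact.mk (nat_lit 4503599895842832) (nat_lit 0x1252c0429050e02) (nat_lit 0x1002b04042a1f02) (nat_lit 0x1002604010c2a0e02) (nat_lit 0x100000096) [.ofNat 0,.ofNat 0,.ofNat 0,.ofNat 0,.ofNat 0,.ofNat 0,.ofNat 0,.ofNat 0,.ofNat 2,.negSucc 0]))) (.node (.leaf (Fact.mk (nat_lit 4503599895846912) (nat_lit 0x127260b0a2528) (nat_lit 0x1) (nat_lit 0x104040c20) (nat_lit 0x10000002c0000003000000035000000380000003500000038) [.ofNat 1,.ofNat 1,.negSucc 1,.ofNat 2])) (.leaf (Fact.mk (nat_lit 9007199791648784) (nat_lit 0x1252b040e2a092606082914)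 (nat_lit 0x1280e29262011160f20) (nat_lit 0x10025090b0e2a08251427) (nat_lit 0x1002000b9000000a5000000d8) [.ofNat 0,.ofNat 0,.ofNat 0,.ofNat 0,.ofNat 0,.ofNat 0,.ofNat 0,.ofNat 0,.negSucc 0,.ofNat 0,.ofNat 1,.ofNat 0,.ofNat 0,.ofNat 1])))) (.node (.node (.leaf (Fact.mk (nat_lit 8) (nat_lit 0x101) (nat_lit 0x1) (nat_lit 0x101) (nat_lit 0x1) [])) (.leaf (Fact.mk (nat_lit 9007199523176468) (nat_lit 0x106) (nat_lit 0x1) (nat_lit 0x1) (nat_lit 0x1) []))) (.node (.leaf (Fact.mk (nat_lit 4503599895846914) (nat_lit 0x1) (nat_lit 0x1) (nat_lit 0x1) (nat_lit 0x100200074000000690000003d0000003d0000003d0000003d000000380000004400000050000000410000003c000000510000003c00000039000000400000004400000034) [.ofNat 0,.ofNat 0,.ofNat 0,.ofNat 0,.ofNat 0,.ofNat 0,.negSucc 1,.ofNat 2])) (.leaf (Fact.mk (nat_lit 40962) (nat_lit 0x1) (nat_lit 0x1) (nat_lit 0x1) (nat_lit 0x10000009e) [.ofNat 0,.ofNat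 0,.ofNat 0,.ofNat 0,.ofNat 0,.ofNat 0,.ofNat 0,.ofNat 1]))))))) (.node (.node (.node (.node (.node (.node (.leaf (Fact.mk (nat_lit 8209) (nat_lit 0x10c) (nat_lit 0x10a0e0e) (nat_lit 0x1) (nat_lit 0x1) [.ofNat 0,.ofNat 0,.negSucc 0])) (.leaf (Fact.mk (nat_lit 40962) (nat_lit 0x1) (nat_lit 0x1) (nat_lit 0x1) (nat_lit 0x1000000ea) [.ofNat 0,.ofNat 0,.ofNat 0,.ofNat 0,.ofNat 0,.ofNat 0,.ofNat 0,.ofNat 0,.ofNat 0,.ofNat 0,.ofNat 0,.ofNat 0,.ofNat 0,.ofNat 1]))) (.leaf (Fact.mk (nat_lit 4503599895846914) (nat_lit 0x1000004292b2a27) (nat_lit 0x1000004292b2a27) (nat_lit 0x1) (nat_lit 0x10000007e00600083002000750040007000800069002000600060005f0000003d0000003d0000005100000038000000340000004400000048) [.ofNat 0,.ofNat 0,.ofNat 0,.ofNat 0,.ofNat 0,.ofNat 0,.ofNat 0,.negSucc 3]))) (.node (.leaf (Fact.mk (nat_lit 8) (nat_lit 0x12c040e282a2b) (nat_lit 0x1) (nat_lit 0x12c040e282a2b) (nat_lit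 0x1) [])) (.leaf (Fact.mk (nat_lit 4503600164294672) (nat_lit 0x127250d1f2c2a112c0a) (nat_lit 0x1252c0904292c2a0604250e) (nat_lit 0x1252c29092529142a02) (nat_lit 0x1002000b8000000a40160009f00600082000000740020007000400069000000600040005f000000a80000001000000025000000060000001a000000050000005900000085000000a8000000270000000400000019000000120000003000000040000000c00000002500000002000000160000001b) [.ofNat 0,.ofNat 0,.ofNat 0,.ofNat 0,.ofNat 0,.ofNat 0,.ofNat 0,.ofNat 0,.ofNat 1,.ofNat 0,.ofNat 0,.ofNat 1])))) (.node (.node (.leaf (Fact.mk (nat_lit 21) (nat_lit 0x1002c) (nat_lit 0x1262c) (nat_lit 0x1) (nat_lit 0x1000000250000000f0000000f) [.ofNat 0,.ofNat 0,.ofNat 0,.ofNat 0,.ofNat 0,.ofNat 0,.negSucc 0])) (.leaf (Fact.mk (nat_lit 8) (nat_lit 0x1252b05200d03080a) (nat_lit 0x1) (nat_lit 0x1252b05200d03080a) (nat_lit 0x1) []))) (.node (.leaf (Fact.mk (nat_lit 40962) (nat_lit 0x1)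 (nat_lit 0x1) (nat_lit 0x1) (nat_lit 0x10040006500000054) [.ofNat 0,.ofNat 0,.negSucc 0])) (.leaf (Fact.mk (nat_lit 9007199791644672) (nat_lit 0x1252b040110290006161315) (nat_lit 0x1252b040c012006091f06) (nat_lit 0x100252a27050b11081602) (nat_lit 0x100a0009e0020008300000075000000d80000000f00000011000000e4) [.ofNat 0,.ofNat 0,.ofNat 0,.ofNat 0,.ofNat 0,.ofNat 0,.ofNat 0,.ofNat 0,.ofNat 0,.ofNat 0,.ofNat 0,.ofNat 0,.ofNat 0,.negSucc 0]))))) (.node (.node (.node (.leaf (Fact.mk (nat_lit 21) (nat_lit 0x100270425102a) (nat_lit 0x1002c0c290a0a) (nat_lit 0x1) (nat_lit 0x100000004000000030000001300000005000000100000000f) [.ofNat 1,.ofNat 0,.ofNat 0,.ofNat 0,.ofNat 0,.ofNat 1,.negSucc 0,.ofNat 1])) (.leaf (Fact.mk (nat_lit 4503599895851024) (nat_lit 0x100250429092802) (nat_lit 0x1252c0429050e02) (nat_lit 0x1260b2b290902) (nat_lit 0x1004000920020008300000075006000690000005f00000028000000940000004a0000000f00000011000000070000000700000003)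 [.ofNat 0,.ofNat 0,.ofNat 0,.ofNat 0,.ofNat 0,.ofNat 0,.ofNat 0,.ofNat 0,.negSucc 0,.ofNat 1]))) (.node (.leaf (Fact.mk (nat_lit 4503599895846914) (nat_lit 0x1) (nat_lit 0x1) (nat_lit 0x1) (nat_lit 0x10000002c0000003500000038000000380000003500000038000000300000002d0000003100000034000000340000003800000038) [.ofNat 0,.ofNat 0,.ofNat 0,.ofNat 5])) (.leaf (Fact.mk (nat_lit 9007199791652866) (nat_lit 0x1252c0b2c2a2b0e03110c11) (nat_lit 0x1252c0b2c2a2b0e03110c11) (nat_lit 0x1) (nat_lit 0x1000000c3000000bd000000bf000000cd000000bf000000cc000000bf000000d4) [.ofNat 0,.ofNat 0,.ofNat 0,.ofNat 0,.ofNat 0,.ofNat 0,.ofNat 0,.ofNat 0,.ofNat 0,.ofNat 0,.ofNat 0,.ofNat 0,.ofNat 1])))) (.node (.node (.leaf (Fact.mk (nat_lit 8) (nat_lit 0x10e) (nat_lit 0x1) (nat_lit 0x10e) (nat_lit 0x1) [])) (.leaf (Fact.mk (nat_lit 4503599895846914) (nat_lit 0x1252b040a2a28) (nat_lit 0x1252b040a2a28) (nat_lit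 0x1) (nat_lit 0x10060009f0000008200a0007100600069002000610000005f000000410000003d000000300000005a000000840000003c000000b4) [.ofNat 0,.ofNat 0,.ofNat 0,.ofNat 0,.ofNat 0,.ofNat 0,.ofNat 0,.ofNat 0,.ofNat 0,.negSucc 0,.ofNat 1]))) (.node (.leaf (Fact.mk (nat_lit 4503599895846914) (nat_lit 0x1) (nat_lit 0x1) (nat_lit 0x1) (nat_lit 0x100a000740060007100600068000000610040005e0000003d0000003d0000003d00000041000000340000002d000000380000003800000038000000500000003d0000003d000000410000003d000000310000003900000035) [.ofNat 0,.ofNat 0,.ofNat 0,.ofNat 0,.ofNat 0,.ofNat 0,.negSucc 7])) (.leaf (Fact.mk (nat_lit 40962) (nat_lit 0x1) (nat_lit 0x1) (nat_lit 0x1) (nat_lit 0x10040009f0000008200000074) [.ofNat 0,.ofNat 0,.ofNat 0,.ofNat 0,.ofNat 0,.ofNat 1])))))) (.node (.node (.node (.node (.leaf (Fact.mk (nat_lit 20497) (nat_lit 0x101) (nat_lit 0x125) (nat_lit 0x1) (nat_lit 0x1) [.ofNat 0,.ofNat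 0,.ofNat 0,.ofNat 0,.ofNat 0,.negSucc 0])) (.leaf (Fact.mk (nat_lit 8) (nat_lit 0x12726040c25292b) (nat_lit 0x1) (nat_lit 0x12726040c25292b) (nat_lit 0x1) []))) (.node (.leaf (Fact.mk (nat_lit 4503599895846914) (nat_lit 0x1) (nat_lit 0x1) (nat_lit 0x1) (nat_lit 0x10000002c000000300000002c00000030000000300000002d0000002d0000003000000030) [.ofNat 0,.ofNat 5])) (.leaf (Fact.mk (nat_lit 9007199791652866) (nat_lit 0x1) (nat_lit 0x1) (nat_lit 0x1) (nat_lit 0x1000000bc000000c3000000bf000000bf000000cd000000bd000000bd000000cd000000cc000000cc000000bd000000bd000000cd000000bf) [.ofNat 0,.ofNat 0,.ofNat 0,.ofNat 0,.ofNat 0,.ofNat 0,.ofNat 0,.ofNat 0,.ofNat 0,.ofNat 0,.ofNat 0,.negSucc 0])))) (.node (.node (.leaf (Fact.mk (nat_lit 8) (nat_lit 0x10a) (nat_lit 0x1) (nat_lit 0x10a) (nat_lit 0x1) [])) (.leaf (Fact.mk (nat_lit 4503599895846914) (nat_lit 0x1280e29200d) (nat_lit 0x1280e29200d)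 (nat_lit 0x1) (nat_lit 0x10080009e0020008300200075002000700000005e0000003c0000003c0000003c0000005b000000840000003d00000030000000ac) [.ofNat 0,.ofNat 0,.ofNat 0,.ofNat 0,.ofNat 0,.ofNat 0,.ofNat 0,.ofNat 0,.ofNat 0,.negSucc 1,.ofNat 2]))) (.node (.leaf (Fact.mk (nat_lit 40962) (nat_lit 0x1) (nat_lit 0x1) (nat_lit 0x1) (nat_lit 0x10040006d00000056) [.ofNat 0,.ofNat 0,.ofNat 0,.negSucc 0])) (.leaf (Fact.mk (nat_lit 40962) (nat_lit 0x1) (nat_lit 0x1) (nat_lit 0x1) (nat_lit 0x1002000700020006800000060) [.ofNat 0,.ofNat 1]))))) (.node (.node (.node (.leaf (Fact.mk (nat_lit 21) (nat_lit 0x1012c1f042900) (nat_lit 0x1262c2909250a) (nat_lit 0x1) (nat_lit 0x10000001a00000002000000100000000e0000000e) [.negSucc 2,.ofNat 0,.ofNat 0,.ofNat 0,.ofNat 0,.negSucc 5,.negSucc 2,.ofNat 1])) (.leaf (Fact.mk (nat_lit 40962) (nat_lit 0x1) (nat_lit 0x1) (nat_lit 0x1) (nat_lit 0x10000009d) [.ofNat 0,.ofNat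 0,.ofNat 0,.ofNat 0,.ofNat 0,.ofNat 0,.ofNat 0,.ofNat 1]))) (.node (.leaf (Fact.mk (nat_lit 40962) (nat_lit 0x1) (nat_lit 0x1) (nat_lit 0x1) (nat_lit 0x10000005d) [.ofNat 1,.ofNat 0,.negSucc 1])) (.leaf (Fact.mk (nat_lit 9007199791652866) (nat_lit 0x1010c270429132a1325) (nat_lit 0x1010c270429132a1325) (nat_lit 0x1) (nat_lit 0x1000000bd000000c3000000bf000000bf000000cd000000bc000000cc000000dc) [.ofNat 0,.ofNat 0,.ofNat 0,.ofNat 0,.ofNat 0,.ofNat 0,.ofNat 0,.ofNat 0,.ofNat 0,.ofNat 0,.ofNat 0,.ofNat 0,.ofNat 0,.negSucc 1])))) (.node (.node (.leaf (Fact.mk (nat_lit 8) (nat_lit 0x127) (nat_lit 0x1) (nat_lit 0x127) (nat_lit 0x1) [])) (.leaf (Fact.mk (nat_lit 9007199791644672) (nat_lit 0x1252c0429050e) (nat_lit 0x1) (nat_lit 0x1002c0429050e) (nat_lit 0x10060009e000000830060007000200068002000600000005f000000ba0000003d0000003d0000003d00000031000000450000008500000035000000340000002c00000031000000ba0000000e0000000e00000012000000100000000e)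 []))) (.node (.leaf (Fact.mk (nat_lit 40962) (nat_lit 0x1) (nat_lit 0x1) (nat_lit 0x1) (nat_lit 0x10060007d00000078) [.ofNat 0,.ofNat 0,.ofNat 0,.ofNat 0,.ofNat 0,.ofNat 0,.ofNat 0,.ofNat 8])) (.leaf (Fact.mk (nat_lit 40962) (nat_lit 0x1) (nat_lit 0x1) (nat_lit 0x1) (nat_lit 0x1000000a4) [.ofNat 0,.ofNat 0,.ofNat 0,.ofNat 0,.ofNat 0,.ofNat 0,.ofNat 0,.ofNat 0,.ofNat 3,.negSucc 1])))))))))
noncomputable def rules : Tr Rule := (.node (.node (.node (.node (.node (.leaf ⟨0,1,[.negSucc 0],[4],[(0,[1,3,4,1,2,4,3,0,2,0])],2,false,1,false⟩) (.leaf ⟨0,1,[.ofNat 0,.ofNat 0,.ofNat 0,.ofNat 0,.ofNat 0,.ofNat 0,.ofNat 0,.ofNat 0,.negSucc 0,.ofNat 0,.ofNat 0,.ofNat 0,.ofNat 0,.negSucc 0],[5,1,4,2,5,7,4,1,4,0,4,3,1,3,1,2],[(0,[2,6]),(0,[2,2,1,3,1,2,2,5,0,4,1,5,6,5,2,2,1,4,2]),(0,[1,1,7,3])],15,false,27,true⟩)) (.leaf ⟨0,0,[],[],[(1,[]),(0,[])],1,false,1,false⟩)) (.node (.leaf ⟨0,1,[.ofNat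 0,.ofNat 0,.ofNat 0,.ofNat 0,.negSucc 0],[15],[(0,[4,2,2,5,1,3,5,2,0,3,3])],6,false,1,false⟩) (.leaf ⟨0,1,[.ofNat 0,.ofNat 0,.ofNat 0,.ofNat 0,.ofNat 0,.ofNat 0,.ofNat 0,.ofNat 0,.negSucc 1,.ofNat 0,.ofNat 1],[2,2,0,2,4,2,2,5,1,4,0,6,4,1,2,4,1,6,4,0],[(0,[1,1,2,1,3,1,2,1,4,0,2,4,3,6,4,3,0,4,2,7,0]),(0,[1,1,6,4,3,0,4,0,6,4])],12,true,1,true⟩))) (.node (.node (.leaf ⟨0,1,[.ofNat 0,.ofNat 0,.negSucc 0],[11],[(0,[1,3,1,5,0,2,0])],4,false,1,false⟩) (.leaf ⟨0,0,[],[],[],0,false,0,false⟩)) (.node (.leaf ⟨0,1,[.ofNat 0,.ofNat 0,.ofNat 0,.ofNat 0,.ofNat 0,.ofNat 0,.negSucc 0],[2,0,3],[(0,[0,0,2,0,3])],8,false,1,false⟩) (.leaf ⟨0,1,[.ofNat 0,.ofNat 0,.ofNat 0,.ofNat 0,.ofNat 0,.ofNat 0,.ofNat 0,.ofNat 0,.negSucc 0,.ofNat 0,.ofNat 0,.ofNat 0,.negSucc 0],[7,0,4,2,4,1,5,7,0,3,1,4,1,3,3,1,2,1],[(0,[2,0,3,1,3,3,1,3,4,2,2,4,2,6,4,3,3,6,4,2,4]),(0,[0,3,3,1,4,2,5,2,1,5,5,6,4,0,4,1,4,3,7]),(0,[1,1,5,3,5,7,2,2,5,7,3,5,3,3,5,2,0,2,2,0,2,1,3])],14,false,65,true⟩))))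 (.node (.node (.node (.leaf ⟨0,1,[.ofNat 0,.negSucc 0],[9],[(0,[3,5,3,0,5,1,2,2])],3,false,1,false⟩) (.leaf ⟨0,1,[.ofNat 0,.ofNat 0,.ofNat 0,.ofNat 0,.ofNat 0,.ofNat 0,.ofNat 0,.ofNat 0,.ofNat 1],[],[(1,[0,0])],10,true,3,false⟩)) (.node (.leaf ⟨0,1,[.ofNat 0,.ofNat 0,.ofNat 0,.ofNat 0,.ofNat 0,.negSucc 0],[0],[(0,[0,0,0])],7,false,1,false⟩) (.leaf ⟨0,1,[.ofNat 0,.ofNat 0,.ofNat 0,.ofNat 0,.ofNat 0,.ofNat 0,.ofNat 0,.ofNat 0,.negSucc 0,.ofNat 0,.ofNat 0,.ofNat 1],[2,1,2,2,1,2,4,2,0,3,6,4,2,0,3,6,4,0],[(0,[6]),(0,[5,3,5,7,2,2,5,7,2,5,3,5,1,4,3,3,0,3,3,0,3,1]),(0,[1,1,7])],13,true,25,true⟩))) (.node (.node (.leaf ⟨0,1,[.ofNat 0,.ofNat 0,.ofNat 0,.negSucc 0],[13],[(0,[3,1,2,5,3,0,2])],5,false,1,false⟩) (.leaf ⟨0,1,[.ofNat 0,.ofNat 0,.ofNat 0,.ofNat 0,.ofNat 0,.ofNat 0,.ofNat 0,.ofNat 0,.negSucc 1,.ofNat 1],[3,3,1,2,2],[(0,[1,1,3,3,1,2,2]),(0,[1,1,3,3,1,2,2,1,1])],11,true,3,true⟩))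 (.node (.leaf ⟨0,1,[.ofNat 0,.ofNat 0,.ofNat 0,.ofNat 0,.ofNat 0,.ofNat 0,.ofNat 0,.negSucc 0],[2,2,0,3,3],[(0,[0,2,2,1,3,3,1])],9,false,1,false⟩) (.leaf ⟨0,1,[.ofNat 0,.ofNat 0,.ofNat 0,.ofNat 0,.ofNat 0,.ofNat 0,.ofNat 0,.ofNat 0,.negSucc 0,.ofNat 0,.ofNat 0,.ofNat 0,.ofNat 0,.negSucc 0],[7,3],[(0,[1,1,5,1,4,2,5,7,4,1,4,0,4,3,1,3,1,2]),(0,[2,6]),(0,[2,2,1,3,1,2,2,5,0,4,1,5,6,5,2,2,1,4,2])],15,false,24,true⟩)))))
noncomputable def ndT : ℕ := nat_lit 0x5d000014000000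

end Cfsg.Agent.DC.LyT
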