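import Cfsg.Agent.Lib.DC.LyT.D0
import Cfsg.Agent.Lib.Grp.G25.Defs

set_option autoImplicit false
set_option maxRecDepth 100000
set_option Elab.async false
set_option linter.unusedSectionVars false

namespace Cfsg.Agent.DC.LyT
open Cfsg.Agent.CG

noncomputable def nd : ℕ → ℕ := (fun i => look 0xffffff ndT (Nat.mul 24 i))
noncomputable def ivT : ℕ := nat_lit 0x1e011c1f1a1d181b16191417121510132e112c2f2a2d282b26292427222520233e213c3f3a3d383b393736353433323130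
noncomputable abbrev iv : ℕ → ℕ := ivX ivT 49
noncomputable def rels : List (List ℕ × List ℤ) := [([257,4,256,1,3,4,1,2,4,3,0,2,0], [.ofNat 1]),
  ([257,9,256,3,5,3,0,5,1,2,2], [.ofNat 0,.ofNat 1]),
  ([257,11,256,1,3,1,5,0,2,0], [.ofNat 0,.ofNat 0,.ofNat 1]),
  ([257,13,256,3,1,2,5,3,0,2], [.ofNat 0,.ofNat 0,.ofNat 0,.ofNat 1]),
  ([257,15,256,4,2,2,5,1,3,5,2,0,3,3], [.ofNat 0,.ofNat 0,.ofNat 0,.ofNat 0,.ofNat 1]),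
  ([257,0,256,0,0,0], [.ofNat 0,.ofNat 0,.ofNat 0,.ofNat 0,.ofNat 0,.ofNat 1]),
  ([257,2,0,3,256,0,0,2,0,3], [.ofNat 0,.ofNat 0,.ofNat 0,.ofNat 0,.ofNat 0,.ofNat 0,.ofNat 1]),
  ([257,2,2,0,3,3,256,0,2,2,1,3,3,1], [.ofNat 0,.ofNat 0,.ofNat 0,.ofNat 0,.ofNat 0,.ofNat 0,.ofNat 0,.ofNat 1]),
  ([256,256,1,1], [.ofNat 0,.ofNat 0,.ofNat 0,.ofNat 0,.ofNat 0,.ofNat 0,.ofNat 0,.ofNat 0,.ofNat 1]),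
  ([3,3,0,2,2,256,3,3,0,2,2,256,3,3,0,2,2,256,0,0], [.ofNat 0,.ofNat 0,.ofNat 0,.ofNat 0,.ofNat 0,.ofNat 0,.ofNat 0,.ofNat 0,.ofNat 0,.ofNat 1]),
  ([5,7,1,5,1,2,5,7,256,1,6,3,5,1,2,5,7,2,5,3,1,5,0,3,0,2,0,3,256,1,5,7,0,5,3,0,5,7,1,5,0,4,3,3,5,3,1,3,3,256], [.ofNat 0,.ofNat 0,.ofNat 0,.ofNat 0,.ofNat 0,.ofNat 0,.ofNat 0,.ofNat 0,.ofNat 0,.ofNat 0,.ofNat 1]),
  ([257,7,257,1,5,7,2,1,3,5,7,2,1,3,5,3,0,3,3,0,3,256,6,256,0,2,1,2,2,1,2,2,5,0,4,2,4,3,6,4,3,3,6,4,2,4], [.ofNat 0,.ofNat 0,.ofNat 0,.ofNat 0,.ofNat 0,.ofNat 0,.ofNat 0,.ofNat 0,.ofNat 0,.ofNat 0,.ofNat 0,.ofNat 1]),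
  ([256,2,0,3,1,3,3,1,3,4,2,2,4,2,6,4,3,3,6,4,2,4,256,0,3,3,1,4,2,5,2,1,5,5,6,4,0,4,1,4,3,7,257,5,3,5,7,2,2,5,7,3,5,3,3,5,2,0,2,2,0,2,1,3,257,7,0,4,2,4,1,5,7,0,3,1,4,1,3,3,1,2,1], [.ofNat 0,.ofNat 0,.ofNat 0,.ofNat 0,.ofNat 0,.ofNat 0,.ofNat 0,.ofNat 0,.ofNat 0,.ofNat 0,.ofNat 0,.ofNat 0,.ofNat 1]),
  ([256,2,6,256,2,2,1,3,1,2,2,5,0,4,1,5,6,5,2,2,1,4,2,257,7,3,257,5,1,4,2,5,7,4,1,4,0,4,3,1,3,1,2], [.ofNat 0,.ofNat 0,.ofNat 0,.ofNat 0,.ofNat 0,.ofNat 0,.ofNat 0,.ofNat 0,.ofNat 0,.ofNat 0,.ofNat 0,.ofNat 0,.ofNat 0,.ofNat 1])]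
noncomputable def lrels : List (List ℕ) := []
noncomputable abbrev rels0 : List (List ℕ × List ℤ) := ([], []) :: ([256, 257], []) :: rels
noncomputable def idx : List (ℕ × ℕ) := [(257, 10)]
noncomputable def zs : List (ℕ × List ℤ) := [(118, [.ofNat 1]),
  (119, [.ofNat 0,.ofNat 1]),
  (120, [.ofNat 0,.ofNat 0,.ofNat 1]),
  (121, [.ofNat 0,.ofNat 0,.ofNat 0,.ofNat 1]),
  (122, [.ofNat 0,.ofNat 0,.ofNat 0,.ofNat 0,.ofNat 1]),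
  (123, [.ofNat 0,.ofNat 0,.ofNat 0,.ofNat 0,.ofNat 0,.ofNat 1]),
  (124, [.ofNat 0,.ofNat 0,.ofNat 0,.ofNat 0,.ofNat 0,.ofNat 0,.ofNat 1]),
  (125, [.ofNat 0,.ofNat 0,.ofNat 0,.ofNat 0,.ofNat 0,.ofNat 0,.ofNat 0,.ofNat 1]),
  (126, [.ofNat 0,.ofNat 0,.ofNat 0,.ofNat 0,.ofNat 0,.ofNat 0,.ofNat 0,.ofNat 0,.ofNat 3,.negSucc 1]),
  (127, [.ofNat 0,.ofNat 0,.ofNat 0,.ofNat 0,.ofNat 0,.ofNat 0,.ofNat 0,.ofNat 0,.ofNat 3,.negSucc 1]),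
  (128, [.ofNat 0,.ofNat 0,.ofNat 0,.ofNat 0,.ofNat 0,.ofNat 0,.ofNat 0,.ofNat 0,.ofNat 3,.negSucc 2,.ofNat 1]),
  (129, [.ofNat 0,.ofNat 0,.ofNat 0,.ofNat 0,.ofNat 0,.ofNat 0,.ofNat 0,.ofNat 0,.ofNat 0,.ofNat 0,.ofNat 0,.ofNat 1]),
  (130, [.ofNat 0,.ofNat 0,.ofNat 0,.ofNat 0,.ofNat 0,.ofNat 0,.ofNat 0,.ofNat 0,.ofNat 0,.ofNat 0,.ofNat 0,.ofNat 0,.ofNat 1]),
  (131, [.ofNat 0,.ofNat 0,.ofNat 0,.ofNat 0,.ofNat 0,.ofNat 0,.ofNat 0,.ofNat 0,.ofNat 0,.ofNat 0,.ofNat 0,.ofNat 0,.ofNat 0,.ofNat 1])]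

end Cfsg.Agent.DC.LyT
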